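import Mathlib
import Cfsg.Agent.Lib.PGroup.SuzukiGen.AbCase

/-!
# Higman's theorem: a 2-group with a cyclic automorphism group regular on the involutions is abelian
or has exponent dividing 4.
-/

set_option autoImplicit false
set_option linter.style.haveILetI false
set_option linter.unusedSectionVars false
set_option linter.unusedVariables false

namespace Cfsg.Agent.Lib.PGroup.SuzukiGen

open scoped commutatorElement

variable {P : Type*} [Group P]

namespace Setup

variable {ξ : P →* P} {q M n : ℕ} (S : Setup ξ q M n)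
include S

theorem inv_of_iter {H : Subgroup P} (hH : IsInv ξ H) (n : ℕ) {x : P} (hx : ξ^[n] x ∈ H) :
    x ∈ H := by
  induction n with
  | zero => exact hx
  | succ n ih =>
    rw [Function.iterate_succ_apply'] at hx
    exact ih (S.inv_of_xi hH hx)

/-- The centre of a nonabelian invariant subgroup of exponent at most 4 is `Om`. -/
theorem center_sub {H : Subgroup P} (hHi : IsInv ξ H) (hsq : ∀ x ∈ H, x * x ∈ S.Om)
    (hna : ∃ u ∈ H, ∃ v ∈ H, u * v ≠ v * u) {z : P} (hz : z ∈ H) (hzc : ∀ u ∈ H, u * z = z * u) :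
    z * z = 1 := by
  classical
  haveI := S.fin
  by_contra hz1
  obtain ⟨u₀, hu₀, v₀, hv₀, huv⟩ := hna
  apply huv
  -- every element of `H` is central in `H`
  have hHne : H ≠ ⊥ := by
    intro hbot
    rw [hbot] at hu₀ hv₀
    have h1 : u₀ = 1 := by simpa using hu₀
    have h2 : v₀ = 1 := by simpa using hv₀
    rw [h1, h2] at huv
    exact huv rfl
  have hOH := S.Om_le hHi hHne
  have hcen : ∀ u ∈ H, ∀ w ∈ H, w * u = u * w := by
    intro u hu w hw
    by_cases h1 : u * u = 1
    · exact S.Om_central h1 w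
    · -- write `u * u` as `a * a` with `a` central in `H`
      have hzz : (z * z) * (z * z) = 1 := hsq z hz
      let Zc : Subgroup P := H ⊓ Subgroup.centralizer (H : Set P)
      have hZci : IsInv ξ Zc := by
        intro a ha
        refine ⟨hHi _ ha.1, Subgroup.mem_centralizer_iff.mpr ?_⟩
        intro s hs
        obtain ⟨s', rfl⟩ := S.surj s
        have hs' : s' ∈ H := S.inv_of_xi hHi hs
        rw [← map_mul, ← map_mul, Subgroup.mem_centralizer_iff.mp ha.2 s' hs']
      have hzZ : z ∈ Zc := ⟨hz, Subgroup.mem_centralizer_iff.mpr hzc⟩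
      obtain ⟨a, haZ, haa⟩ := S.exists_sq_eq hZci
        (fun a ha b hb => (Subgroup.mem_centralizer_iff.mp hb.2 a ha.1)) hzZ hz1 hzz (hsq u hu)
      have haH : a ∈ H := haZ.1
      have hac : ∀ y ∈ H, y * a = a * y := fun y hy =>
        Subgroup.mem_centralizer_iff.mp haZ.2 y hy
      have h2 : (u * a⁻¹) * (u * a⁻¹) = 1 := by
        have hcu : a⁻¹ * u = u * a⁻¹ := by
          have := hac u hu
          calc a⁻¹ * u = a⁻¹ * (u * a) * a⁻¹ := by group
            _ = a⁻¹ * (a * u) * a⁻¹ := by rw [this]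
            _ = u * a⁻¹ := by group
        calc (u * a⁻¹) * (u * a⁻¹) = u * (a⁻¹ * u) * a⁻¹ := by group
          _ = u * (u * a⁻¹) * a⁻¹ := by rw [hcu]
          _ = (u * u) * (a * a)⁻¹ := by group
          _ = 1 := by rw [haa]; group
      have h4 : ∀ y : P, y * (u * a⁻¹) = (u * a⁻¹) * y := fun y => S.Om_central h2 y
      -- `u = (u a⁻¹) a`
      have hu' : u = (u * a⁻¹) * a := by group
      rw [hu']
      calc w * ((u * a⁻¹) * a) = (w * (u * a⁻¹)) * a := by group
        _ = ((u * a⁻¹) * w) * a := by rw [h4 w]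
        _ = (u * a⁻¹) * (w * a) := by group
        _ = (u * a⁻¹) * (a * w) := by rw [hac w hw]
        _ = _ := by group
  exact hcen v₀ hv₀ u₀ hu₀

/-- The main step of the induction. -/
theorem main_step {F : Type*} [Field F] [Fintype F] [CharP F 2] (hq : Fintype.card F = q)
    {H : Subgroup P} (hHi : IsInv ξ H) (hHtop : H ≠ ⊤)
    (hmax : ∀ C : Subgroup P, IsInv ξ C → H ≤ C → C = H ∨ C = ⊤)
    (hIH : (∀ x ∈ H, ∀ y ∈ H, x * y = y * x) ∨ (∀ x ∈ H, x * x ∈ S.Om)) :
    (∀ x y : P, x * y = y * x) ∨ (∀ x : P, x * x ∈ S.Om) := by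
  classical
  haveI := S.fin
  haveI : Fact (Nat.Prime 2) := ⟨Nat.prime_two⟩
  haveI hnil : Group.IsNilpotent P := S.pg.isNilpotent
  -- `H` is normal
  have hHn : H.Normal := by
    let N := Subgroup.normalizer (H : Set P)
    have hNi : IsInv ξ N := by
      intro x hx
      rw [Subgroup.mem_normalizer_iff] at hx ⊢
      intro h
      obtain ⟨h', rfl⟩ := S.surj h
      have e1 : ξ x * ξ h' * (ξ x)⁻¹ = ξ (x * h' * x⁻¹) := by
        rw [map_mul, map_mul, map_inv]
      rw [e1]
      constructor
      · intro hh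
        exact hHi _ ((hx h').mp (S.inv_of_xi hHi hh))
      · intro hh
        exact hHi _ ((hx h').mpr (S.inv_of_xi hHi hh))
    rcases hmax N hNi Subgroup.le_normalizer with h | h
    · exfalso
      have hlt : H < ⊤ := lt_top_iff_ne_top.mpr hHtop
      have := Group.normalizerCondition_of_isNilpotent H hlt
      have h2 : N = Subgroup.normalizer (H : Set P) := rfl
      rw [← h2, h] at this
      exact lt_irrefl _ this
    · exact Subgroup.normalizer_eq_top_iff.mp h
  haveI := hHn
  have htopinv : IsInv ξ (⊤ : Subgroup P) := fun _ _ => trivial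
  obtain ⟨hc1', hc2', μ, f, hμ, hf⟩ := S.exists_coord (F := F) hq (A := ⊤) (B := H) le_top
    hHtop htopinv hHi (Subgroup.Normal.subgroupOf hHn _)
    (fun C hC hHC _ => hmax C hC hHC)
  have hc2 : ∀ x : P, x * x ∈ H := fun x => hc2' x trivial
  have hc1 : ∀ x y : P, ⁅x, y⁆ ∈ H := fun x y => hc1' x trivial y trivial
  by_cases hbot : H = ⊥
  · left
    intro x y
    have := hc1 x y
    rw [hbot, Subgroup.mem_bot, commutatorElement_eq_one_iff_mul_comm] at this
    exact this
  by_cases hab : ∀ x ∈ H, ∀ y ∈ H, x * y = y * x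
  · exact S.abelian_case hq hHi hHn hHtop hbot hab hc2 hc1 hμ hf
  right
  have hsq : ∀ x ∈ H, x * x ∈ S.Om := by
    rcases hIH with h | h
    · exact absurd h hab
    · exact h
  have hna : ∃ u ∈ H, ∃ v ∈ H, u * v ≠ v * u := by
    by_contra hcon
    push Not at hcon
    exact hab hcon
  have hB := S.propB hq hHn hHi hsq
  -- the three subgroups lemma
  have hOmbot : ⁅S.Om, (⊤ : Subgroup P)⁆ = ⊥ := by
    rw [eq_bot_iff, Subgroup.commutator_le]
    intro g hg x _
    rw [Subgroup.mem_bot, commutatorElement_eq_one_iff_mul_comm]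
    exact (S.Om_central hg x).symm
  have h1 : ⁅H, (⊤ : Subgroup P)⁆ ≤ S.Om := by
    rw [Subgroup.commutator_le]
    intro g hg x _
    exact hB g hg x
  have h2 : ⁅⁅(⊤ : Subgroup P), H⁆, (⊤ : Subgroup P)⁆ = ⊥ := by
    rw [eq_bot_iff, ← hOmbot]
    apply Subgroup.commutator_mono _ le_rfl
    rw [Subgroup.commutator_comm]
    exact h1
  have h4 : ⁅⁅H, (⊤ : Subgroup P)⁆, (⊤ : Subgroup P)⁆ = ⊥ := by
    rw [eq_bot_iff, ← hOmbot]
    exact Subgroup.commutator_mono h1 le_rfl
  have h5 : ⁅⁅(⊤ : Subgroup P), (⊤ : Subgroup P)⁆, H⁆ = ⊥ :=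
    Subgroup.commutator_commutator_eq_bot_of_rotate h2 h4
  have hcC : ∀ x y : P, ∀ h ∈ H, ⁅x, y⁆ * h = h * ⁅x, y⁆ := by
    intro x y h hh
    have h6 : ⁅⁅x, y⁆, h⁆ ∈ ⁅⁅(⊤ : Subgroup P), (⊤ : Subgroup P)⁆, H⁆ :=
      Subgroup.commutator_mem_commutator
        (Subgroup.commutator_mem_commutator trivial trivial) hh
    rw [h5, Subgroup.mem_bot, commutatorElement_eq_one_iff_mul_comm] at h6
    exact h6
  by_cases hC : ∀ c : P, (∀ h ∈ H, h * c = c * h) → c ∈ H
  · -- `C_P(H) ≤ H`
    have hω : ∀ x y : P, ⁅x, y⁆ ∈ S.Om := by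
      intro x y
      exact S.center_sub hHi hsq hna (hc1 x y) (fun u hu => (hcC x y u hu).symm)
    intro x
    apply S.center_sub hHi hsq hna (hc2 x)
    intro u hu
    have e1 : ⁅x * x, u⁆ = ⁅x, u⁆ * ⁅x, u⁆ := S.comm_mul_left (hω x u)
    have e2 : ⁅x, u⁆ * ⁅x, u⁆ = 1 := hω x u
    rw [e2, commutatorElement_eq_one_iff_mul_comm] at e1
    exact e1.symm
  · push Not at hC
    obtain ⟨c, hc, hcH⟩ := hC
    let Cz : Subgroup P := Subgroup.centralizer (H : Set P)
    have hCzi : IsInv ξ Cz := by
      intro a ha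
      refine Subgroup.mem_centralizer_iff.mpr ?_
      intro s hs
      obtain ⟨s', rfl⟩ := S.surj s
      have hs' : s' ∈ H := S.inv_of_xi hHi hs
      have := Subgroup.mem_centralizer_iff.mp ha s' hs'
      rw [← map_mul, ← map_mul, this]
    have hsupi : IsInv ξ (H ⊔ Cz) := by
      intro x hx
      have hsup : (H ⊔ Cz : Subgroup P) = (H ⊔ Cz) := rfl
      rw [Subgroup.mem_sup_of_normal_left] at hx
      obtain ⟨a, ha, b, hb, rfl⟩ := hx
      rw [map_mul]
      exact Subgroup.mul_mem _ (Subgroup.mem_sup_left (hHi a ha))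
        (Subgroup.mem_sup_right (hCzi b hb))
    have hsup : H ⊔ Cz = ⊤ := by
      rcases hmax _ hsupi le_sup_left with h | h
      · exfalso
        apply hcH
        rw [← h]
        exact Subgroup.mem_sup_right (Subgroup.mem_centralizer_iff.mpr hc)
      · exact h
    intro x
    have hx : x ∈ H ⊔ Cz := by rw [hsup]; trivial
    rw [Subgroup.mem_sup_of_normal_left] at hx
    obtain ⟨a, ha, b, hb, rfl⟩ := hx
    have hab' : a * b = b * a := Subgroup.mem_centralizer_iff.mp hb a ha
    have hbb : b * b ∈ S.Om := by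
      apply S.center_sub hHi hsq hna (hc2 b)
      intro u hu
      have h1 := Subgroup.mem_centralizer_iff.mp hb u hu
      calc u * (b * b) = (u * b) * b := by group
        _ = (b * u) * b := by rw [h1]
        _ = b * (u * b) := by group
        _ = b * (b * u) := by rw [h1]
        _ = _ := by group
    have e : a * b * (a * b) = (a * a) * (b * b) := by
      calc a * b * (a * b) = a * (b * a) * b := by group
        _ = a * (a * b) * b := by rw [hab']
        _ = _ := by group
    rw [e]
    exact S.Om.mul_mem (hsq a ha) hbb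

/-- The restriction of `ξ` to an invariant subgroup. -/
def restr (ξ : P →* P) {H : Subgroup P} (hH : IsInv ξ H) : H →* H :=
  (ξ.comp H.subtype).codRestrict H (fun x => hH x x.2)

omit S in
theorem restr_iter (ξ : P →* P) {H : Subgroup P} (hH : IsInv ξ H) (n : ℕ) (x : H) :
    (((restr ξ hH)^[n] x : H) : P) = ξ^[n] (x : P) := by
  induction n with
  | zero => rfl
  | succ n ih =>
    rw [Function.iterate_succ_apply', Function.iterate_succ_apply', ← ih]
    rfl

/-- Restriction of the set-up to a nontrivial invariant subgroup. -/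
theorem restrict {H : Subgroup P} (hH : IsInv ξ H) (hne : H ≠ ⊥) : Setup (restr ξ hH) q M n := by
  classical
  haveI := S.fin
  refine ⟨inferInstance, S.pg.to_subgroup H, ?_, ?_, ?_, ?_, S.qpow, S.n2, S.M2, S.Mdvd, S.hord,
    S.hw⟩
  · intro x
    apply Subtype.ext
    rw [restr_iter]
    exact S.per _
  · rw [← S.card]
    congr 1
    apply Nat.card_congr
    exact
      { toFun := fun x => ⟨x.1.1, fun h => x.2.1 (Subtype.ext h), congrArg Subtype.val x.2.2⟩
        invFun := fun x => ⟨⟨x.1, S.mem_of_sq hH hne x.2.2⟩,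
          fun h => x.2.1 (congrArg Subtype.val h), Subtype.ext x.2.2⟩
        left_inv := fun x => rfl
        right_inv := fun x => rfl }
  · intro x hx1 hx2 g
    exact Subtype.ext (S.central (x : P) (fun h => hx1 (Subtype.ext h))
      (congrArg Subtype.val hx2) (g : P))
  · intro a x hx1 hx2 h
    apply S.freeOm a (x : P) (fun h => hx1 (Subtype.ext h)) (congrArg Subtype.val hx2)
    have := congrArg Subtype.val h
    rwa [restr_iter] at this

end Setup

universe u

/-- **Higman's theorem (core)**: a nonabelian group in the set-up has all squares in `Om`. -/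
theorem core_ind : ∀ (N : ℕ) (P : Type u) [Group P] (ξ : P →* P) (q M n : ℕ) (S : Setup ξ q M n),
    Nat.card P = N → (∀ x y : P, x * y = y * x) ∨ (∀ x : P, x * x ∈ S.Om) := by
  intro N
  induction N using Nat.strong_induction_on with
  | _ N ih =>
    intro P _ ξ q M n S hn
    classical
    haveI := S.fin
    have hqm := S.qpow
    have hm0 : n ≠ 0 := by have := S.n2; omega
    letI : Fintype (GaloisField 2 n) := Fintype.ofFinite _
    have hq : Fintype.card (GaloisField 2 n) = q := by
      rw [← Nat.card_eq_fintype_card, GaloisField.card 2 n hm0, hqm]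
    -- a maximal invariant subgroup
    let 𝒮 : Set (Subgroup P) := {C | IsInv ξ C ∧ C ≠ ⊤}
    obtain ⟨z, hz1, hz2⟩ := S.exists_invol
    have hbi : IsInv ξ (⊥ : Subgroup P) := by
      intro x hx
      have : x = 1 := by simpa using hx
      rw [this, map_one]
      exact Subgroup.one_mem _
    have h𝒮 : 𝒮.Nonempty := by
      refine ⟨⊥, hbi, ?_⟩
      intro h
      have : z ∈ (⊥ : Subgroup P) := by rw [h]; trivial
      exact hz1 (by simpa using this)
    obtain ⟨H, hH⟩ := (Set.toFinite 𝒮).exists_maximal h𝒮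
    obtain ⟨hHi, hHtop⟩ := hH.prop
    have hmax : ∀ C : Subgroup P, IsInv ξ C → H ≤ C → C = H ∨ C = ⊤ := by
      intro C hC hHC
      by_cases h : C = ⊤
      · exact Or.inr h
      · left
        exact le_antisymm (hH.le_of_ge ⟨hC, h⟩ hHC) hHC
    apply S.main_step hq hHi hHtop hmax
    by_cases hbot : H = ⊥
    · left
      intro x hx y hy
      rw [hbot] at hx hy
      have h1 : x = 1 := by simpa using hx
      have h2 : y = 1 := by simpa using hy
      rw [h1, h2]
    · have S' := S.restrict hHi hbot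
      have hlt : Nat.card H < N := by
        rw [← hn]
        have h1 := Subgroup.card_mul_index H
        have h2 := Subgroup.one_lt_index_of_ne_top hHtop
        have h4 : 0 < Nat.card H := Nat.card_pos
        nlinarith
      rcases ih _ hlt H _ q M n S' rfl with h | h
      · left
        intro x hx y hy
        exact congrArg Subtype.val (h ⟨x, hx⟩ ⟨y, hy⟩)
      · right
        intro x hx
        exact congrArg Subtype.val (h ⟨x, hx⟩)

/-- **Higman's theorem (core)**. -/
theorem core {P : Type u} [Group P] {ξ : P →* P} {q M n : ℕ} (S : Setup ξ q M n) :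
    (∀ x y : P, x * y = y * x) ∨ (∀ x : P, x * x ∈ S.Om) :=
  core_ind _ P ξ q M n S rfl

end Cfsg.Agent.Lib.PGroup.SuzukiGen
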